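import Groth.Agent.AlgSp2.EtColim.Glue
import Groth.Agent.AlgSpBasic.ColimitSep
import Groth.Agent.AlgSpBasic.AlgSpace
import Groth.Agent.AlgSpBasic.FiltrationSpaces
import Groth.Agent.AlgSpBasic.LocPInst

/-!
# Colimits detected by etale base change
-/

set_option autoImplicit false
set_option backward.isDefEq.respectTransparency.types false
set_option linter.unusedSectionVars false

universe w v u

open CategoryTheory CategoryTheory.Limits AlgebraicGeometry AlgSp

noncomputable section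

namespace Groth.AlgSp2.EtColim

open Groth.AlgSpBasic
open Groth.AlgSpBasic.ColimitSep (mkOver mkHom over_w)

variable {S : Scheme.{u}} {B : AlgSp.Space S} {I : Type v} [Category.{w} I] {D : I ⥤ Over B}
  {c : Cocone D}

/-- The sheaf of a member. -/
abbrev d (D : I ⥤ Over B) (i : I) : Sp S := (D.obj i).left.obj

/-- The transition maps. -/
abbrev dm (D : I ⥤ Over B) {i j : I} (φ : i ⟶ j) : d D i ⟶ d D j := (D.map φ).left.hom

/-- The vertex. -/
abbrev vtx (c : Cocone D) : Sp S := c.pt.left.obj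

/-- The coprojections. -/
abbrev cι (c : Cocone D) (i : I) : d D i ⟶ vtx c := (c.ι.app i).left.hom

/-- The structure map of the vertex. -/
abbrev pC (c : Cocone D) : vtx c ⟶ B.obj := c.pt.hom.hom

theorem cι_compat (c : Cocone D) {i j : I} (φ : i ⟶ j) : dm D φ ≫ cι c j = cι c i :=
  congrArg (fun k => k.left.hom) (c.w φ)

theorem cι_pC (c : Cocone D) (i : I) : cι c i ≫ pC c = (D.obj i).hom.hom := over_w _

theorem isAlgSpace_pb {X Y Z : Sp S} (hX : IsAlgSpace X) (hY : IsAlgSpace Y) (hZ : IsAlgSpace Z)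
    (f : X ⟶ Z) (g : Y ⟶ Z) : IsAlgSpace (pullback f g) :=
  isAlgSpace_pullback ⟨X, hX⟩ ⟨Y, hY⟩ ⟨Z, hZ⟩ f g

section System

variable {G W : Sp S} (hG : IsAlgSpace G) (g : ∀ i, d D i ⟶ G)
  (hg : ∀ ⦃i j : I⦄ (φ : i ⟶ j), dm D φ ≫ g j = g i) (w : W ⟶ G) (hW : IsAlgSpace W)

/-- The transition maps of a base change system. -/
def sysMap {i j : I} (φ : i ⟶ j) : pullback (g i) w ⟶ pullback (g j) w :=
  pullback.lift (pullback.fst _ _ ≫ dm D φ) (pullback.snd _ _)
    (by rw [Category.assoc, hg φ, pullback.condition])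

@[reassoc]
theorem sysMap_fst {i j : I} (φ : i ⟶ j) :
    sysMap g hg w φ ≫ pullback.fst _ _ = pullback.fst _ _ ≫ dm D φ := pullback.lift_fst _ _ _

@[reassoc]
theorem sysMap_snd {i j : I} (φ : i ⟶ j) :
    sysMap g hg w φ ≫ pullback.snd _ _ = pullback.snd _ _ := pullback.lift_snd _ _ _

/-- The system over `B` of the base changes. -/
def sys : I ⥤ Over B where
  obj i := mkOver (isAlgSpace_pb (D.obj i).left.property hW hG (g i) w)
    (pullback.fst (g i) w ≫ (D.obj i).hom.hom)
  map {i j} φ := mkHom (sysMap g hg w φ) (by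
    show sysMap g hg w φ ≫ pullback.fst (g j) w ≫ (D.obj j).hom.hom = _
    rw [sysMap_fst_assoc]
    exact congrArg (pullback.fst (g i) w ≫ ·) (over_w (D.map φ)))
  map_id i := Over.OverMorphism.ext (ObjectProperty.hom_ext _ (by
    show sysMap g hg w (𝟙 i) = 𝟙 _
    refine pullback.hom_ext ?_ ?_
    · rw [sysMap_fst, Category.id_comp]
      show _ ≫ (D.map (𝟙 i)).left.hom = _
      rw [D.map_id]
      exact Category.comp_id _
    · rw [sysMap_snd, Category.id_comp]))
  map_comp {i j k} φ ψ := Over.OverMorphism.ext (ObjectProperty.hom_ext _ (by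
    show sysMap g hg w (φ ≫ ψ) = sysMap g hg w φ ≫ sysMap g hg w ψ
    refine pullback.hom_ext ?_ ?_
    · rw [sysMap_fst, Category.assoc, sysMap_fst, sysMap_fst_assoc]
      show _ ≫ (D.map (φ ≫ ψ)).left.hom = _
      rw [D.map_comp]
      rfl
    · rw [sysMap_snd, Category.assoc, sysMap_snd, sysMap_snd]))

/-- The projection to the diagram. -/
def sysProj : sys hG g hg w hW ⟶ D where
  app i := mkHom (pullback.fst (g i) w) rfl
  naturality i j φ := Over.OverMorphism.ext (ObjectProperty.hom_ext _ (sysMap_fst g hg w φ))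

theorem isPullback_sysMap {i j : I} (φ : i ⟶ j) :
    IsPullback (sysMap g hg w φ) (pullback.fst (g i) w) (pullback.fst (g j) w) (dm D φ) := by
  refine IsPullback.of_right ?_ (sysMap_fst g hg w φ) (IsPullback.of_hasPullback (g j) w).flip
  rw [sysMap_snd, hg φ]
  exact (IsPullback.of_hasPullback (g i) w).flip

end System

/-- Descent of etale systems. -/
def EffDesc (c : Cocone D) : Prop :=
  ∀ (D' : I ⥤ Over B) (α : D' ⟶ D),
      (∀ ⦃i j : I⦄ (g : i ⟶ j), IsPullback (D'.map g).left.hom (α.app i).left.hom (α.app j).left.hom (D.map g).left.hom) →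
      (∀ i, AlgSp.IsEtaleMor (α.app i).left.hom) →
        ∃ (c' : Cocone D') (a : c'.pt ⟶ c.pt), AlgSp.IsEtaleMor a.left.hom ∧
          ∀ i, IsPullback (c'.ι.app i).left.hom (α.app i).left.hom a.left.hom (c.ι.app i).left.hom

/-- Descent of morphisms of etale systems. -/
def FullDesc (c : Cocone D) : Prop :=
  ∀ (U U' : Over B) (u : U ⟶ c.pt) (u' : U' ⟶ c.pt), AlgSp.IsEtaleMor u.left.hom → AlgSp.IsEtaleMor u'.left.hom →
      ∀ (DU DU' : I ⥤ Over B) (αU : DU ⟶ D) (αU' : DU' ⟶ D) (ιU : DU ⟶ (Functor.const I).obj U)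
        (ιU' : DU' ⟶ (Functor.const I).obj U'),
        (∀ i, IsPullback (ιU.app i).left.hom (αU.app i).left.hom u.left.hom (c.ι.app i).left.hom) →
        (∀ i, IsPullback (ιU'.app i).left.hom (αU'.app i).left.hom u'.left.hom (c.ι.app i).left.hom) →
        ∀ (β : DU ⟶ DU'), β ≫ αU' = αU →
          ∃! m : U ⟶ U', m ≫ u' = u ∧ ∀ i, ιU.app i ≫ m = β.app i ≫ ιU'.app i

/-- Descent of maps into affine schemes. -/
def AffDesc (c : Cocone D) : Prop :=
  ∀ (B' Zs Us : Over S) (b : (AlgSp.yon S).obj B' ⟶ B.obj) (z : Zs ⟶ B') {XB : AlgSp.Space S}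
      (x₁ : XB ⟶ c.pt.left) (x₂ : XB.obj ⟶ (AlgSp.yon S).obj B') (uu : (AlgSp.yon S).obj Us ⟶ XB.obj)
      (DU : I ⥤ AlgSp.Space S) (αU : DU ⟶ D ⋙ Over.forget B)
      (ιU : DU ⟶ (Functor.const I).obj ((AlgSp.ofScheme S).obj Us))
      (φ : DU ⟶ (Functor.const I).obj ((AlgSp.ofScheme S).obj Zs)),
      IsAffine B'.left → IsAffine Zs.left → IsAffine Us.left → AlgSp.RepWith @Etale b →
      IsPullback x₁.hom x₂ c.pt.hom.hom b → AlgSp.RepWith @Etale uu →
      (∀ i, IsPullback (ιU.app i).hom (αU.app i).hom (uu ≫ x₁.hom) (c.ι.app i).left.hom) →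
      (∀ i, (φ.app i).hom ≫ (AlgSp.yon S).map z = (ιU.app i).hom ≫ uu ≫ x₂) →
        ∃! fz : Us ⟶ Zs, (AlgSp.yon S).map fz ≫ (AlgSp.yon S).map z = uu ≫ x₂ ∧
          ∀ i, (ιU.app i).hom ≫ (AlgSp.yon S).map fz = (φ.app i).hom

/-- A system over an etale space descends to an etale space over the vertex. -/
theorem exists_glue_space (h₁ : EffDesc c) {G W : Sp S} (hG : IsAlgSpace G) (g : ∀ i, d D i ⟶ G)
    (hg : ∀ ⦃i j : I⦄ (φ : i ⟶ j), dm D φ ≫ g j = g i) {w : W ⟶ G} (hW : IsAlgSpace W)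
    (hw : IsEtaleMor w) :
    ∃ (U : Sp S) (a : U ⟶ vtx c) (q : ∀ i, pullback (g i) w ⟶ U)
      (r : ∀ i, pullback (cι c i) a ⟶ W), IsAlgSpace U ∧ IsEtaleMor a ∧
        (∀ i, q i ≫ a = pullback.fst _ _ ≫ cι c i) ∧
        (∀ i, r i ≫ w = pullback.fst _ _ ≫ g i) ∧
        ∀ ⦃i j : I⦄ (φ : i ⟶ j),
          sysMap (cι c) (fun _ _ => cι_compat c) a φ ≫ r j = r i := by
  obtain ⟨c', a, ha, hsq⟩ := h₁ (sys hG g hg w hW) (sysProj hG g hg w hW)
    (fun i j φ => isPullback_sysMap g hg w φ)
    (fun i => isEtaleMor_of_isPullback hW hG (D.obj i).left.property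
      (IsPullback.of_hasPullback (g i) w).flip hw)
  let ci : ∀ i, pullback (g i) w ⟶ c'.pt.left.obj := fun i => (c'.ι.app i).left.hom
  have sq : ∀ i, IsPullback (ci i) (pullback.fst (g i) w) a.left.hom (cι c i) := hsq
  let e : ∀ i, pullback (cι c i) a.left.hom ⟶ pullback (g i) w := fun i =>
    (sq i).lift (pullback.snd _ _) (pullback.fst _ _) pullback.condition.symm
  refine ⟨c'.pt.left.obj, a.left.hom, ci,
    fun i => e i ≫ pullback.snd (g i) w, c'.pt.left.property, ha, fun i => (sq i).w, fun i => ?_,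
    fun i j φ => ?_⟩
  · rw [Category.assoc, ← pullback.condition, ← Category.assoc]
    exact congrArg (· ≫ g i) ((sq i).lift_snd _ _ _)
  · have hc : sysMap g hg w φ ≫ ci j = ci i :=
      congrArg (fun k => k.left.hom) (c'.w φ)
    have he : sysMap (cι c) (fun _ _ => cι_compat c) a.left.hom φ ≫ e j = e i ≫ sysMap g hg w φ := by
      refine (sq j).hom_ext ?_ ?_
      · rw [Category.assoc, Category.assoc, hc, (sq j).lift_fst, (sq i).lift_fst, sysMap_snd]
      · rw [Category.assoc, Category.assoc, (sq j).lift_snd, sysMap_fst, sysMap_fst,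
          (sq i).lift_snd_assoc]
    rw [reassoc_of% he, sysMap_snd]

/-- Morphisms between etale spaces over the vertex come uniquely from the systems. -/
theorem existsUnique_hom (h₁' : FullDesc c) {U U' : Sp S} (hU : IsAlgSpace U) (hU' : IsAlgSpace U')
    {u : U ⟶ vtx c} {u' : U' ⟶ vtx c} (hu : IsEtaleMor u) (hu' : IsEtaleMor u')
    (β : ∀ i, pullback (cι c i) u ⟶ U') (hβ : ∀ i, β i ≫ u' = pullback.fst _ _ ≫ cι c i)
    (hn : ∀ ⦃i j : I⦄ (φ : i ⟶ j), sysMap (cι c) (fun _ _ => cι_compat c) u φ ≫ β j = β i) :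
    ∃! m : U ⟶ U', m ≫ u' = u ∧ ∀ i, pullback.snd _ _ ≫ m = β i := by
  let hc : ∀ ⦃i j : I⦄ (φ : i ⟶ j), dm D φ ≫ cι c j = cι c i := fun _ _ => cι_compat c
  let hC := c.pt.left.property
  let U₁ : Over B := mkOver hU (u ≫ pC c)
  let U₂ : Over B := mkOver hU' (u' ≫ pC c)
  let ιT : ∀ (V : Sp S) (hV : IsAlgSpace V) (v : V ⟶ vtx c),
      sys hC (cι c) hc v hV ⟶ (Functor.const I).obj (mkOver hV (v ≫ pC c)) := fun V hV v =>
    { app := fun i => mkHom (pullback.snd (cι c i) v) (by
        show pullback.snd (cι c i) v ≫ v ≫ pC c = pullback.fst (cι c i) v ≫ (D.obj i).hom.hom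
        rw [← reassoc_of% (pullback.condition (f := cι c i) (g := v)), cι_pC])
      naturality := fun i j φ => Over.OverMorphism.ext (ObjectProperty.hom_ext _
        ((sysMap_snd (cι c) hc v φ).trans (Category.comp_id _).symm)) }
  let bb : ∀ i, pullback (cι c i) u ⟶ pullback (cι c i) u' := fun i =>
    pullback.lift (pullback.fst _ _) (β i) (hβ i).symm
  let βT : sys hC (cι c) hc u hU ⟶ sys hC (cι c) hc u' hU' :=
    { app := fun i => mkHom (bb i) (by
        show bb i ≫ pullback.fst (cι c i) u' ≫ (D.obj i).hom.hom = _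
        rw [pullback.lift_fst_assoc]
        rfl)
      naturality := fun i j φ => Over.OverMorphism.ext (ObjectProperty.hom_ext _ (by
        show sysMap (cι c) hc u φ ≫ bb j = bb i ≫ sysMap (cι c) hc u' φ
        refine pullback.hom_ext ?_ ?_
        · rw [Category.assoc, Category.assoc, pullback.lift_fst, sysMap_fst, sysMap_fst,
            pullback.lift_fst_assoc]
        · rw [Category.assoc, Category.assoc, pullback.lift_snd, sysMap_snd, pullback.lift_snd]
          exact hn φ)) }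
  obtain ⟨m, ⟨hm₁, hm₂⟩, hmu⟩ := h₁' U₁ U₂ (mkHom u rfl) (mkHom u' rfl) hu hu'
    (sys hC (cι c) hc u hU) (sys hC (cι c) hc u' hU') (sysProj hC (cι c) hc u hU)
    (sysProj hC (cι c) hc u' hU') (ιT U hU u) (ιT U' hU' u')
    (fun i => (IsPullback.of_hasPullback (cι c i) u).flip)
    (fun i => (IsPullback.of_hasPullback (cι c i) u').flip) βT
    (NatTrans.ext (funext fun i => Over.OverMorphism.ext (ObjectProperty.hom_ext _
      (pullback.lift_fst _ _ _))))
  refine ⟨m.left.hom, ⟨congrArg (fun k => k.left.hom) hm₁, fun i =>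
    (congrArg (fun k => k.left.hom) (hm₂ i)).trans (pullback.lift_snd _ _ _)⟩, ?_⟩
  rintro n ⟨hn₁, hn₂⟩
  have := hmu (mkHom n (by show n ≫ u' ≫ pC c = u ≫ pC c; rw [← Category.assoc, hn₁]))
    ⟨Over.OverMorphism.ext (ObjectProperty.hom_ext _ hn₁), fun i => Over.OverMorphism.ext
      (ObjectProperty.hom_ext _ ((hn₂ i).trans (pullback.lift_snd _ _ _).symm))⟩
  exact congrArg (fun k => k.left.hom) this

section Affine

variable (h₁' : FullDesc c) (h₂ : AffDesc c) {B' Zs : Over S} [IsAffine B'.left] [IsAffine Zs.left]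
  {b : (yon S).obj B' ⟶ B.obj} (hb : RepWith @Etale b) (z : Zs ⟶ B')

/-- The condition on a map to the affine scheme. -/
def Cond {U : Sp S} (u : U ⟶ vtx c) (r : ∀ i, pullback (cι c i) u ⟶ (yon S).obj Zs)
    (b : (yon S).obj B' ⟶ B.obj) (f : U ⟶ (yon S).obj Zs) : Prop :=
  f ≫ (yon S).map z ≫ b = u ≫ pC c ∧ ∀ i, pullback.snd _ _ ≫ f = r i

/-- The condition on a system of maps to the affine scheme. -/
def Good {U : Sp S} (u : U ⟶ vtx c) (r : ∀ i, pullback (cι c i) u ⟶ (yon S).obj Zs)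
    (b : (yon S).obj B' ⟶ B.obj) : Prop :=
  (∀ i, r i ≫ (yon S).map z ≫ b = pullback.snd _ _ ≫ u ≫ pC c) ∧
    ∀ ⦃i j : I⦄ (φ : i ⟶ j), sysMap (cι c) (fun _ _ => cι_compat c) u φ ≫ r j = r i

include h₁' h₂ hb in
theorem existsUnique_affine {Us : Over S} [IsAffine Us.left] {q : (yon S).obj Us ⟶ vtx c}
    (hq : RepWith @Etale q) {r : ∀ i, pullback (cι c i) q ⟶ (yon S).obj Zs} (hr : Good z q r b) :
    ∃! f : (yon S).obj Us ⟶ (yon S).obj Zs, Cond z q r b f := by
  let XB : AlgSp.Space S := ⟨pullback (pC c) b,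
    isAlgSpace_pb c.pt.left.property (IsAlgSpace.yon_obj B') B.property _ _⟩
  let x₁ : XB ⟶ c.pt.left := ObjectProperty.homMk (pullback.fst (pC c) b)
  let x₂ : XB.obj ⟶ (yon S).obj B' := pullback.snd (pC c) b
  have hx₁ : IsEtaleMor x₁.hom := isEtaleMor_of_isPullback (IsAlgSpace.yon_obj B') B.property
    c.pt.left.property (IsPullback.of_hasPullback (pC c) b).flip (AlgSp.isEtaleMor_of_repWith _ hb)
  have hqe : IsEtaleMor q := AlgSp.isEtaleMor_of_repWith _ hq
  have hβ : ∀ i, (pullback.fst (cι c i) q ≫ cι c i) ≫ pC c = (r i ≫ (yon S).map z) ≫ b := fun i => by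
    rw [Category.assoc (r i), hr.1 i, pullback.condition, Category.assoc]
  obtain ⟨e, ⟨he₁, he₂⟩, heu⟩ := existsUnique_hom h₁' (IsAlgSpace.yon_obj Us) XB.property hqe hx₁
    (fun i => pullback.lift _ _ (hβ i)) (fun i => pullback.lift_fst _ _ _) (fun i j φ => by
      refine pullback.hom_ext ?_ ?_
      · rw [Category.assoc, pullback.lift_fst, pullback.lift_fst, sysMap_fst_assoc,
          cι_compat c φ]
      · rw [Category.assoc, pullback.lift_snd, pullback.lift_snd, ← Category.assoc, hr.2 φ])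
  have hee : RepWith @Etale e := by
    have := isEtaleMor_of_comp (IsAlgSpace.yon_obj Us) XB.property c.pt.left.property
      (f := e) (g := x₁.hom) (by rw [he₁]; exact hqe) hx₁ (𝟙 _) (repWith_id _ Us)
    rwa [Category.id_comp] at this
  let hc : ∀ ⦃i j : I⦄ (φ : i ⟶ j), dm D φ ≫ cι c j = cι c i := fun _ _ => cι_compat c
  let F := sys c.pt.left.property (cι c) hc q (IsAlgSpace.yon_obj Us) ⋙ Over.forget B
  let αU : F ⟶ D ⋙ Over.forget B := Functor.whiskerRight
    (sysProj c.pt.left.property (cι c) hc q (IsAlgSpace.yon_obj Us)) (Over.forget B)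
  let ιU : F ⟶ (Functor.const I).obj ((ofScheme S).obj Us) :=
    { app := fun i => ObjectProperty.homMk (pullback.snd (cι c i) q)
      naturality := fun i j φ => ObjectProperty.hom_ext _
        ((sysMap_snd (cι c) hc q φ).trans (Category.comp_id _).symm) }
  let φU : F ⟶ (Functor.const I).obj ((ofScheme S).obj Zs) :=
    { app := fun i => ObjectProperty.homMk (r i)
      naturality := fun i j φ => ObjectProperty.hom_ext _
        ((hr.2 φ).trans (Category.comp_id _).symm) }
  obtain ⟨fz, ⟨hf₁, hf₂⟩, hfu⟩ := h₂ B' Zs Us b z x₁ x₂ e F αU ιU φU ‹_› ‹_› ‹_› hb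
    (IsPullback.of_hasPullback (pC c) b) hee
    (fun i => by
      show IsPullback (pullback.snd (cι c i) q) (pullback.fst (cι c i) q) (e ≫ x₁.hom) (cι c i)
      rw [he₁]
      exact (IsPullback.of_hasPullback (cι c i) q).flip)
    (fun i => by
      show r i ≫ (yon S).map z = pullback.snd (cι c i) q ≫ e ≫ x₂
      rw [← Category.assoc (pullback.snd (cι c i) q), he₂ i, pullback.lift_snd])
  refine ⟨(yon S).map fz, ⟨?_, hf₂⟩, ?_⟩
  · rw [← Category.assoc, hf₁, Category.assoc, ← pullback.condition, ← Category.assoc]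
    exact congrArg (· ≫ pC c) he₁
  · rintro f ⟨hg₁, hg₂⟩
    obtain ⟨g, rfl⟩ := (yon S).map_surjective f
    have hw : q ≫ pC c = ((yon S).map g ≫ (yon S).map z) ≫ b := by rw [Category.assoc, hg₁]
    have : pullback.lift _ _ hw = e := heu _ ⟨pullback.lift_fst _ _ _, fun i => by
      refine pullback.hom_ext ?_ ?_
      · rw [Category.assoc, pullback.lift_fst, pullback.lift_fst, pullback.condition]
      · rw [Category.assoc, pullback.lift_snd, pullback.lift_snd, ← Category.assoc, hg₂ i]⟩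
    exact congrArg _ (hfu g ⟨by rw [← this]; exact (pullback.lift_snd _ _ _).symm, hg₂⟩)

omit [IsAffine B'.left] [IsAffine Zs.left] in
theorem Good.restrict {U V : Sp S} {u : U ⟶ vtx c} {r : ∀ i, pullback (cι c i) u ⟶ (yon S).obj Zs}
    (hr : Good z u r b) (k : V ⟶ U) :
    Good z (k ≫ u) (fun i => pullback.lift (pullback.fst _ _) (pullback.snd _ _ ≫ k)
      (by rw [Category.assoc]; exact pullback.condition) ≫ r i) b := by
  refine ⟨fun i => ?_, fun i j φ => ?_⟩
  · rw [Category.assoc, hr.1 i, pullback.lift_snd_assoc]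
    simp only [Category.assoc]
  · dsimp only
    rw [← hr.2 φ]
    refine (Category.assoc _ _ _).symm.trans
      ((congrArg (· ≫ r j) (pullback.hom_ext ?_ ?_)).trans (Category.assoc _ _ _))
    · simp only [Category.assoc, pullback.lift_fst, sysMap_fst, pullback.lift_fst_assoc]
    · simp only [Category.assoc, pullback.lift_snd, sysMap_snd, sysMap_snd_assoc]

omit [IsAffine B'.left] [IsAffine Zs.left] in
theorem Cond.restrict {U V : Sp S} {u : U ⟶ vtx c} {r : ∀ i, pullback (cι c i) u ⟶ (yon S).obj Zs}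
    {f : U ⟶ (yon S).obj Zs} (hf : Cond z u r b f) (k : V ⟶ U) :
    Cond z (k ≫ u) (fun i => pullback.lift (pullback.fst _ _) (pullback.snd _ _ ≫ k)
      (by rw [Category.assoc]; exact pullback.condition) ≫ r i) b (k ≫ f) := by
  refine ⟨by rw [Category.assoc, hf.1, Category.assoc], fun i => ?_⟩
  show _ = pullback.lift _ _ _ ≫ r i
  rw [← hf.2 i, pullback.lift_snd_assoc, Category.assoc]

include h₁' h₂ hb in
theorem cond_unique {U : Sp S} (hU : IsAlgSpace U) {u : U ⟶ vtx c} (hu : IsEtaleMor u)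
    {r : ∀ i, pullback (cι c i) u ⟶ (yon S).obj Zs} (hr : Good z u r b)
    {f f' : U ⟶ (yon S).obj Zs} (hf : Cond z u r b f) (hf' : Cond z u r b f') : f = f' := by
  obtain ⟨C⟩ := exists_affCover hU
  refine C.hom_ext hU fun m => ?_
  haveI := C.aff m
  exact (existsUnique_affine h₁' h₂ hb z (hu _ (C.et m)) (hr.restrict z (C.g m))).unique
    (hf.restrict z (C.g m)) (hf'.restrict z (C.g m))

include h₁' h₂ hb in
theorem exists_cond {U : Sp S} (hU : IsAlgSpace U) {u : U ⟶ vtx c} (hu : IsEtaleMor u)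
    {r : ∀ i, pullback (cι c i) u ⟶ (yon S).obj Zs} (hr : Good z u r b) :
    ∃ f : U ⟶ (yon S).obj Zs, Cond z u r b f := by
  obtain ⟨C⟩ := exists_affCover hU
  have hex : ∀ m, ∃ f, Cond z (C.g m ≫ u) (fun i => pullback.lift (pullback.fst _ _)
      (pullback.snd _ _ ≫ C.g m) (by rw [Category.assoc]; exact pullback.condition) ≫ r i) b f :=
    fun m => haveI := C.aff m
      (existsUnique_affine h₁' h₂ hb z (hu _ (C.et m)) (hr.restrict z (C.g m))).exists
  choose f hf using hex
  have hcov : ∀ y : Points U, ∃ (m : C.ι) (x : Points ((yon S).obj (C.A m))),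
      Points.map (C.g m) x = y := fun y => by
    obtain ⟨m, x, rfl⟩ := C.cover y
    exact ⟨m, Points.ofScheme _ x, (ofPt_eq_map _ _).symm⟩
  have hag : ∀ m l, pullback.fst (C.g m) (C.g l) ≫ f m = pullback.snd (C.g m) (C.g l) ≫ f l := by
    intro m l
    have hP : IsAlgSpace (pullback (C.g m) (C.g l)) :=
      isAlgSpace_pb (IsAlgSpace.yon_obj _) (IsAlgSpace.yon_obj _) hU _ _
    have hk : IsEtaleMor (pullback.fst (C.g m) (C.g l)) :=
      isEtaleMor_of_isPullback (IsAlgSpace.yon_obj _) hU (IsAlgSpace.yon_obj _)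
        (IsPullback.of_hasPullback (C.g m) (C.g l)).flip (AlgSp.isEtaleMor_of_repWith _ (C.et l))
    refine cond_unique h₁' h₂ hb z hP (isEtaleMor_comp hk (AlgSp.isEtaleMor_of_repWith _ (hu _ (C.et m))))
      ((hr.restrict z (C.g m)).restrict z _) ((hf m).restrict z _) ⟨?_, fun i => ?_⟩
    · rw [Category.assoc, (hf l).1]
      simp only [Category.assoc, pullback.condition_assoc]
    · show _ = pullback.lift _ _ _ ≫ pullback.lift _ _ _ ≫ r i
      let k : pullback (cι c i) (pullback.fst (C.g m) (C.g l) ≫ C.g m ≫ u) ⟶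
          pullback (cι c i) (C.g l ≫ u) :=
        pullback.lift (pullback.fst _ _) (pullback.snd _ _ ≫ pullback.snd (C.g m) (C.g l))
          (pullback.condition.trans (by simp only [Category.assoc, pullback.condition_assoc]))
      have : pullback.snd _ _ ≫ pullback.snd (C.g m) (C.g l) ≫ f l =
          k ≫ pullback.snd (cι c i) (C.g l ≫ u) ≫ f l := by
        rw [pullback.lift_snd_assoc, Category.assoc]
      refine this.trans ((congrArg (k ≫ ·) ((hf l).2 i)).trans ?_)
      refine ((Category.assoc _ _ _).symm.trans ?_).trans (Category.assoc _ _ _)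
      refine congrArg (· ≫ r i) (pullback.hom_ext ?_ ?_)
      · simp only [k, Category.assoc, pullback.lift_fst]
      · simp only [k, Category.assoc, pullback.lift_snd, pullback.lift_snd_assoc, pullback.condition]
  obtain ⟨F, hF⟩ := exists_desc_family (fun _ => IsAlgSpace.yon_obj _) C.g
    (fun m => AlgSp.isEtaleMor_of_repWith _ (C.et m)) hcov f hag
  refine ⟨F, C.hom_ext hU fun m => by rw [← Category.assoc, hF m, (hf m).1, Category.assoc],
    fun i => ?_⟩
  have hPi : IsAlgSpace (pullback (cι c i) u) :=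
    isAlgSpace_pb (D.obj i).left.property hU c.pt.left.property _ _
  refine hom_ext_of_etale_family hPi
    (U := fun m => pullback (cι c i) (C.g m ≫ u))
    (fun m => isAlgSpace_pb (D.obj i).left.property (IsAlgSpace.yon_obj _) c.pt.left.property _ _)
    (fun m => pullback.lift (pullback.fst _ _) (pullback.snd _ _ ≫ C.g m)
      (by rw [Category.assoc]; exact pullback.condition)) (fun m => ?_) (fun y => ?_) fun m => ?_
  · refine isEtaleMor_of_isPullback (IsAlgSpace.yon_obj _) hU hPi (fst := pullback.snd _ _)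
      (g := pullback.snd (cι c i) u) ?_ (AlgSp.isEtaleMor_of_repWith _ (C.et m))
    refine IsPullback.of_bot ?_ (pullback.lift_snd _ _ _).symm
      (IsPullback.of_hasPullback (cι c i) u).flip
    rw [pullback.lift_fst]
    exact (IsPullback.of_hasPullback (cι c i) (C.g m ≫ u)).flip
  · obtain ⟨m, x, hx⟩ := hcov (Points.map (pullback.snd (cι c i) u) y)
    have sq : IsPullback (pullback.snd (cι c i) (C.g m ≫ u))
        (pullback.lift (pullback.fst _ _) (pullback.snd _ _ ≫ C.g m)
          (by rw [Category.assoc]; exact pullback.condition)) (C.g m)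
        (pullback.snd (cι c i) u) := by
      refine IsPullback.of_bot ?_ (pullback.lift_snd _ _ _).symm
        (IsPullback.of_hasPullback (cι c i) u).flip
      rw [pullback.lift_fst]
      exact (IsPullback.of_hasPullback (cι c i) (C.g m ≫ u)).flip
    obtain ⟨p, -, hp⟩ := Groth.AlgSpBasic.exists_point_of_isPullback sq x y hx
    exact ⟨m, p, hp⟩
  · rw [pullback.lift_snd_assoc, Category.assoc, hF m]
    exact (hf m).2 i

end Affine

end Groth.AlgSp2.EtColim
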