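import Groth.Agent.AlgSp2.SigmaGlue
import Groth.Agent.AlgSp2.InfFamily
import Groth.Agent.HenselPoint.SigmaRep
import Groth.Agent.AlgSpBasic.GlueingPairSp
import Groth.Agent.AlgSp2.Locality

/-!
# Gluing morphisms along etale families
-/

set_option autoImplicit false
set_option backward.isDefEq.respectTransparency.types false

universe u

open CategoryTheory CategoryTheory.Limits AlgebraicGeometry AlgSp

noncomputable section

namespace Groth.AlgSp2.EtColim

open Groth.AlgSpBasic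

variable {S : Scheme.{u}}

/-- A jointly surjective family of affine etale charts. -/
structure AffCover (G : Sp S) where
  ι : Type u
  A : ι → Over S
  aff : ∀ m, IsAffine (A m).left
  g : ∀ m, (yon S).obj (A m) ⟶ G
  et : ∀ m, RepWith @Etale (g m)
  cover : ∀ y : Points G, ∃ (m : ι) (x : (A m).left), Points.ofPt (g m) x = y

theorem exists_affCover {G : Sp S} (hG : IsAlgSpace G) : Nonempty (AffCover G) := by
  obtain ⟨M, p, hp, hps⟩ := hG.atlas
  let 𝒰 := M.left.affineCover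
  let k : ∀ i, Over.mk (𝒰.f i ≫ M.hom) ⟶ M := fun i => Over.homMk (𝒰.f i) rfl
  refine ⟨⟨_, fun i => Over.mk (𝒰.f i ≫ M.hom), fun i => inferInstanceAs (IsAffine (𝒰.X i)),
    fun i => (yon S).map (k i) ≫ p,
    fun i => repWith_comp ((repWith_yon_map_iff _ (k i)).2 (inferInstanceAs (Etale (𝒰.f i)))) hp,
    fun y => ?_⟩⟩
  obtain ⟨x, rfl⟩ := surjective_ofPt_of_repWith hps y
  obtain ⟨i, x, rfl⟩ := 𝒰.exists_eq x
  exact ⟨i, x, ofPt_comp_yon (k i) p x⟩

/-- Morphisms out of a space are determined on a family of charts. -/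
theorem AffCover.hom_ext {G Q : Sp S} (hG : IsAlgSpace G) (C : AffCover G) {a b : G ⟶ Q}
    (h : ∀ m, C.g m ≫ a = C.g m ≫ b) : a = b :=
  hom_ext_of_charts ⟨G, hG⟩ C.g C.et (fun y => by
    obtain ⟨m, x, rfl⟩ := C.cover y
    exact ⟨m, Points.ofScheme _ x, (ofPt_eq_map _ _).symm⟩) h

/-- Morphisms out of a space are determined on an etale covering family. -/
theorem hom_ext_of_etale_family {G Q : Sp S} (hG : IsAlgSpace G) {K : Type u} {U : K → Sp S}
    (hU : ∀ k, IsAlgSpace (U k)) (a : ∀ k, U k ⟶ G) (ha : ∀ k, IsEtaleMor (a k))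
    (hc : ∀ y : Points G, ∃ (k : K) (z : Points (U k)), Points.map (a k) z = y)
    {x y : G ⟶ Q} (h : ∀ k, a k ≫ x = a k ≫ y) : x = y := by
  let C := fun k => (exists_affCover (hU k)).some
  let C' : AffCover G :=
    ⟨Σ k, (C k).ι, fun p => (C p.1).A p.2, fun p => (C p.1).aff p.2,
      fun p => (C p.1).g p.2 ≫ a p.1, fun p => ha p.1 _ ((C p.1).et p.2), fun w => by
        obtain ⟨k, z, rfl⟩ := hc w
        obtain ⟨m, x', rfl⟩ := (C k).cover z
        exact ⟨⟨k, m⟩, x', (Points.map_ofPt _ _ _).symm⟩⟩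
  refine C'.hom_ext hG fun p => ?_
  show ((C p.1).g p.2 ≫ a p.1) ≫ x = ((C p.1).g p.2 ≫ a p.1) ≫ y
  simp only [Category.assoc, h p.1]

/-- Morphisms out of a space glue along an etale covering family. -/
theorem exists_desc_family {G Q : Sp S} {K : Type u} {U : K → Sp S}
    (hU : ∀ k, IsAlgSpace (U k)) (a : ∀ k, U k ⟶ G) (ha : ∀ k, IsEtaleMor (a k))
    (hc : ∀ y : Points G, ∃ (k : K) (z : Points (U k)), Points.map (a k) z = y)
    (x : ∀ k, U k ⟶ Q)
    (h : ∀ k l, pullback.fst (a k) (a l) ≫ x k = pullback.snd (a k) (a l) ≫ x l) :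
    ∃ y : G ⟶ Q, ∀ k, a k ≫ y = x k := by
  let C := fun k => (exists_affCover (hU k)).some
  let A : (Σ k, (C k).ι) → Over S := fun p => (C p.1).A p.2
  obtain ⟨q, hq, -⟩ := exists_glue A (fun p => (C p.1).g p.2 ≫ a p.1)
  obtain ⟨σ, hσ, -⟩ := exists_glue A (fun p => (C p.1).g p.2 ≫ x p.1)
  have hqe : RepWith @Etale q := Groth.HenselPoint.repWith_sigma q fun p => by
    rw [hq]; exact ha p.1 _ ((C p.1).et p.2)
  have hqs : RepWith @Surjective q := repWith_surjective_of_ofPt hqe.rep fun y => by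
    obtain ⟨k, z, rfl⟩ := hc y
    obtain ⟨m, x', rfl⟩ := (C k).cover z
    refine ⟨(sigmaIncl A ⟨k, m⟩).left x', ?_⟩
    rw [← ofPt_comp_yon, hq, Points.map_ofPt]
  obtain ⟨y, hy⟩ := exists_desc_of_etale q hqe hqs σ fun Z u v huv => by
    obtain ⟨u, rfl⟩ := (yon S).map_surjective u
    obtain ⟨v, rfl⟩ := (yon S).map_surjective v
    let W : (Σ k, (C k).ι) × (Σ k, (C k).ι) → Over S := fun p =>
      pullback (pullback.fst u (sigmaIncl A p.1) ≫ v) (sigmaIncl A p.2)
    let c : ∀ p, W p ⟶ Z := fun p =>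
      pullback.fst (pullback.fst u (sigmaIncl A p.1) ≫ v) (sigmaIncl A p.2) ≫
        pullback.fst u (sigmaIncl A p.1)
    have ho : ∀ {T : Over S} (f : T ⟶ sigmaObj A) (p : Σ k, (C k).ι),
        IsOpenImmersion (pullback.fst f (sigmaIncl A p)).left ∧
          ∀ t : T.left, f.left t ∈ Set.range (sigmaIncl A p).left →
            t ∈ Set.range (pullback.fst f (sigmaIncl A p)).left := by
      intro T f p
      have sq := isPullback_left (isPullback_of_yon ((IsPullback.of_hasPullback f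
        (sigmaIncl A p)).map (yon S)))
      refine ⟨MorphismProperty.of_isPullback (P := @IsOpenImmersion) sq.flip
        (inferInstanceAs (IsOpenImmersion (Sigma.ι (fun p => (A p).left) p))), ?_⟩
      rintro t ⟨w, hw⟩
      obtain ⟨r, hr, -⟩ := Scheme.exists_preimage_of_isPullback sq t w hw.symm
      exact ⟨r, hr⟩
    refine hom_ext_of_family c (fun p => ?_) (fun z => ?_) fun p => ?_
    · haveI := (ho u p.1).1
      haveI := (ho (pullback.fst u (sigmaIncl A p.1) ≫ v) p.2).1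
      exact (inferInstance : Etale ((pullback.fst (pullback.fst u (sigmaIncl A p.1) ≫ v)
        (sigmaIncl A p.2)).left ≫ (pullback.fst u (sigmaIncl A p.1)).left))
    · obtain ⟨p₁, hp₁⟩ := Groth.HenselPoint.exists_sigmaIncl_eq (V := A) (u.left z)
      obtain ⟨r₁, rfl⟩ := (ho u p₁).2 z hp₁
      obtain ⟨p₂, hp₂⟩ := Groth.HenselPoint.exists_sigmaIncl_eq (V := A)
        ((pullback.fst u (sigmaIncl A p₁) ≫ v).left r₁)
      obtain ⟨r₂, hr₂⟩ := (ho (pullback.fst u (sigmaIncl A p₁) ≫ v) p₂).2 r₁ hp₂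
      exact ⟨(p₁, p₂), r₂, congrArg (pullback.fst u (sigmaIncl A p₁)).left hr₂⟩
    · obtain ⟨⟨k, m⟩, ⟨l, n⟩⟩ := p
      let p₁ := pullback.fst (pullback.fst u (sigmaIncl A ⟨k, m⟩) ≫ v) (sigmaIncl A ⟨l, n⟩) ≫
        pullback.snd u (sigmaIncl A ⟨k, m⟩)
      let p₂ := pullback.snd (pullback.fst u (sigmaIncl A ⟨k, m⟩) ≫ v) (sigmaIncl A ⟨l, n⟩)
      have e₁ : c (⟨k, m⟩, ⟨l, n⟩) ≫ u = p₁ ≫ sigmaIncl A ⟨k, m⟩ := by
        simp only [c, p₁, Category.assoc, pullback.condition]
      have e₂ : c (⟨k, m⟩, ⟨l, n⟩) ≫ v = p₂ ≫ sigmaIncl A ⟨l, n⟩ := by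
        simp only [c, p₂, Category.assoc, pullback.condition]
      rw [← Functor.map_comp_assoc, ← Functor.map_comp_assoc, e₁, e₂]
      simp only [(yon S).map_comp p₁, (yon S).map_comp p₂, Category.assoc, hσ]
      have hkl : ((yon S).map p₁ ≫ (C k).g m) ≫ a k = ((yon S).map p₂ ≫ (C l).g n) ≫ a l := by
        rw [Category.assoc, Category.assoc, ← hq ⟨k, m⟩, ← hq ⟨l, n⟩, ← Functor.map_comp_assoc,
          ← Functor.map_comp_assoc, ← e₁, ← e₂]
        simp only [(yon S).map_comp (c _), Category.assoc, huv]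
      have := pullback.lift _ _ hkl ≫= h k l
      rw [pullback.lift_fst_assoc, pullback.lift_snd_assoc] at this
      simpa only [Category.assoc] using this
  refine ⟨y, fun k => (C k).hom_ext (hU k) fun m => ?_⟩
  rw [← Category.assoc, ← hq ⟨k, m⟩, Category.assoc, hy, hσ]

end Groth.AlgSp2.EtColim
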