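import Groth.Agent.AlgSp2.EtColim.Core

/-!
# Colimits detected by etale base change: the colimit property
-/

set_option autoImplicit false
set_option backward.isDefEq.respectTransparency.types false
set_option linter.unusedSectionVars false

universe w v u

open CategoryTheory CategoryTheory.Limits AlgebraicGeometry AlgSp

noncomputable section

namespace Groth.AlgSp2.EtColim

open Groth.AlgSpBasic
open Groth.AlgSpBasic.ColimitSep (mkOver mkHom over_w)

variable {S : Scheme.{u}}

/-- Affine charts of a space lying over affine charts of the base. -/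
structure RelCharts (B : AlgSp.Space S) {T : Sp S} (pT : T ⟶ B.obj) where
  K : Type u
  B' : K → Over S
  A : K → Over S
  affB : ∀ k, IsAffine (B' k).left
  affA : ∀ k, IsAffine (A k).left
  b : ∀ k, (yon S).obj (B' k) ⟶ B.obj
  hb : ∀ k, RepWith @Etale (b k)
  w : ∀ k, (yon S).obj (A k) ⟶ T
  et : ∀ k, RepWith @Etale (w k)
  z : ∀ k, A k ⟶ B' k
  comm : ∀ k, w k ≫ pT = (yon S).map (z k) ≫ b k
  cover : ∀ y : Points T, ∃ (k : K) (x : Points ((yon S).obj (A k))), Points.map (w k) x = y

theorem exists_relCharts (B : AlgSp.Space S) {T : Sp S} (hT : IsAlgSpace T) (pT : T ⟶ B.obj) :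
    Nonempty (RelCharts B pT) := by
  obtain ⟨V, p, hp, hps⟩ := B.property.atlas
  obtain ⟨U, w, α, hw, hws, hcomm⟩ := exists_chart_over hT B.property.diag pT p hp hps
  have hV : ∀ x : U.left, ∃ O : V.left.Opens, IsAffineOpen O ∧ α.left x ∈ O := fun x => by
    obtain ⟨O, hO, hx, -⟩ := exists_isAffineOpen_mem_and_subset
      (X := V.left) (x := α.left x) (U := ⊤) trivial
    exact ⟨O, hO, hx⟩
  choose O hO hxO using hV
  have hU : ∀ x : U.left, ∃ Q : U.left.Opens, IsAffineOpen Q ∧ x ∈ Q ∧ Q ≤ α.left ⁻¹ᵁ O x :=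
    fun x => by
      obtain ⟨Q, hQ, hx, hle⟩ := exists_isAffineOpen_mem_and_subset
        (X := U.left) (x := x) (U := α.left ⁻¹ᵁ O x) (hxO x)
      exact ⟨Q, hQ, hx, hle⟩
  choose Q hQ hxQ hle using hU
  let iA : ∀ x : U.left, Over.mk ((Q x).ι ≫ U.hom) ⟶ U := fun x => Over.homMk (Q x).ι rfl
  let iB : ∀ x : U.left, Over.mk ((O x).ι ≫ V.hom) ⟶ V := fun x => Over.homMk (O x).ι rfl
  let z : ∀ x : U.left, Over.mk ((Q x).ι ≫ U.hom) ⟶ Over.mk ((O x).ι ≫ V.hom) := fun x =>
    Over.homMk (α.left.resLE (O x) (Q x) (hle x)) (by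
      show α.left.resLE (O x) (Q x) (hle x) ≫ (O x).ι ≫ V.hom = (Q x).ι ≫ U.hom
      rw [Scheme.Hom.resLE_comp_ι_assoc, Over.w α])
  have hz : ∀ x, z x ≫ iB x = iA x ≫ α := fun x =>
    Over.OverMorphism.ext (Scheme.Hom.resLE_comp_ι _ _)
  exact ⟨⟨U.left, fun x => Over.mk ((O x).ι ≫ V.hom), fun x => Over.mk ((Q x).ι ≫ U.hom),
    fun x => hO x, fun x => hQ x, fun x => (yon S).map (iB x) ≫ p,
    fun x => repWith_comp
      ((repWith_yon_map_iff _ (iB x)).2 (inferInstanceAs (Etale (O x).ι))) hp,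
    fun x => (yon S).map (iA x) ≫ w,
    fun x => repWith_comp
      ((repWith_yon_map_iff _ (iA x)).2 (inferInstanceAs (Etale (Q x).ι))) hw, z,
    fun x => by
      rw [Category.assoc, hcomm, ← Category.assoc, ← Functor.map_comp, ← hz, Functor.map_comp,
        Category.assoc],
    fun y => by
      obtain ⟨x, rfl⟩ := surjective_ofPt_of_repWith hws y
      refine ⟨x, Points.ofScheme _ (⟨x, hxQ x⟩ : Q x), ?_⟩
      rw [← ofPt_eq_map, ofPt_comp_yon]
      rfl⟩⟩

variable {B : AlgSp.Space S} {I : Type v} [Category.{w} I] {D : I ⥤ Over B} {c : Cocone D}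

/-- Morphisms out of an etale space over the vertex are determined by the systems. -/
theorem hom_eq_of_systems (h₁' : FullDesc c) (h₂ : AffDesc c) {T : Sp S} (hT : IsAlgSpace T)
    {pT : T ⟶ B.obj} (C : RelCharts B pT) {Q : Sp S} (hQ : IsAlgSpace Q) {q : Q ⟶ vtx c}
    (hq : IsEtaleMor q) {u v : Q ⟶ T} (hu : u ≫ pT = q ≫ pC c) (hv : v ≫ pT = q ≫ pC c)
    (h : ∀ i, pullback.snd (cι c i) q ≫ u = pullback.snd (cι c i) q ≫ v) : u = v := by
  have hA : ∀ k, IsAlgSpace ((yon S).obj (C.A k)) := fun k => IsAlgSpace.yon_obj _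
  have hw : ∀ k, IsEtaleMor (C.w k) := fun k => AlgSp.isEtaleMor_of_repWith _ (C.et k)
  have het : ∀ (u : Q ⟶ T) k, IsEtaleMor (pullback.fst u (C.w k)) := fun u k =>
    isEtaleMor_of_isPullback (hA k) hT hQ (IsPullback.of_hasPullback u (C.w k)).flip (hw k)
  refine hom_ext_of_etale_family hQ (U := fun k => pullback u (C.w k))
    (fun k => isAlgSpace_pb hQ (hA k) hT _ _) (fun k => pullback.fst u (C.w k)) (het u)
    (fun y => ?_) fun k => ?_
  · obtain ⟨k, x, hx⟩ := C.cover (Points.map u y)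
    obtain ⟨p, hp, -⟩ := Groth.AlgSpBasic.exists_point_of_isPullback
      (IsPullback.of_hasPullback u (C.w k)) y x hx.symm
    exact ⟨k, p, hp⟩
  haveI := C.affA k
  haveI := C.affB k
  have hP : IsAlgSpace (pullback u (C.w k)) := isAlgSpace_pb hQ (hA k) hT _ _
  have hP' : IsAlgSpace (pullback v (C.w k)) := isAlgSpace_pb hQ (hA k) hT _ _
  let qP := pullback.fst u (C.w k) ≫ q
  have hqP : IsEtaleMor qP := isEtaleMor_comp (het u k) hq
  let l : ∀ i, pullback (cι c i) qP ⟶ pullback (cι c i) q := fun i =>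
    pullback.lift (pullback.fst _ _) (pullback.snd _ _ ≫ pullback.fst u (C.w k))
      (pullback.condition.trans (Category.assoc _ _ _).symm)
  have hl : ∀ i, pullback.snd (cι c i) qP ≫ pullback.fst u (C.w k) ≫ v =
      pullback.snd (cι c i) qP ≫ pullback.snd u (C.w k) ≫ C.w k := fun i => by
    have := l i ≫= h i
    simp only [l, pullback.lift_snd_assoc, Category.assoc] at this
    rw [← this, pullback.condition]
  obtain ⟨m, ⟨hm₁, hm₂⟩, -⟩ := existsUnique_hom h₁' hP hP' hqP
    (isEtaleMor_comp (het v k) hq)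
    (fun i => pullback.lift (pullback.snd (cι c i) qP ≫ pullback.fst u (C.w k))
      (pullback.snd (cι c i) qP ≫ pullback.snd u (C.w k))
      (by simp only [Category.assoc]; exact hl i))
    (fun i => by
      rw [pullback.lift_fst_assoc, Category.assoc]
      exact pullback.condition.symm)
    (fun i j φ => by
      refine pullback.hom_ext ?_ ?_
      · simp only [Category.assoc, pullback.lift_fst, sysMap_snd_assoc]
      · simp only [Category.assoc, pullback.lift_snd, sysMap_snd_assoc])
  have hmf : m ≫ pullback.fst v (C.w k) = pullback.fst u (C.w k) :=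
    (existsUnique_hom h₁' hP hQ hqP hq (fun i => pullback.snd (cι c i) qP ≫ pullback.fst u (C.w k))
      (fun i => (Category.assoc _ _ _).trans pullback.condition.symm)
      (fun i j φ => by simp only [sysMap_snd_assoc])).unique
      ⟨(Category.assoc _ _ _).trans hm₁, fun i => by
        rw [← Category.assoc, hm₂, pullback.lift_fst]⟩
      ⟨rfl, fun _ => rfl⟩
  have hs : pullback.snd u (C.w k) = m ≫ pullback.snd v (C.w k) := by
    refine cond_unique h₁' h₂ (C.hb k) (C.z k) hP hqP
      (r := fun i => pullback.snd (cι c i) qP ≫ pullback.snd u (C.w k)) ⟨fun i => ?_, ?_⟩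
      ⟨?_, fun _ => rfl⟩ ⟨?_, fun i => ?_⟩
    · rw [Category.assoc, ← C.comm, ← pullback.condition_assoc, hu, Category.assoc]
    · intro i j φ
      simp only [sysMap_snd_assoc]
    · rw [← C.comm, ← pullback.condition_assoc, hu, Category.assoc]
    · rw [← C.comm, Category.assoc, ← pullback.condition_assoc, reassoc_of% hmf, hv, Category.assoc]
    · rw [← Category.assoc, hm₂, pullback.lift_snd]
  calc pullback.fst u (C.w k) ≫ u = (m ≫ pullback.snd v (C.w k)) ≫ C.w k := by
        rw [pullback.condition, ← hs]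
    _ = pullback.fst u (C.w k) ≫ v := by
        rw [Category.assoc, ← pullback.condition, ← Category.assoc, hmf]

/-- The universal property of the vertex. -/
theorem exists_desc (h₁ : EffDesc c) (h₁' : FullDesc c) (h₂ : AffDesc c) {T : Sp S}
    (hT : IsAlgSpace T) (pT : T ⟶ B.obj) (g : ∀ i, d D i ⟶ T)
    (hg : ∀ ⦃i j : I⦄ (φ : i ⟶ j), dm D φ ≫ g j = g i) (hgB : ∀ i, g i ≫ pT = (D.obj i).hom.hom) :
    ∃ τ : vtx c ⟶ T, τ ≫ pT = pC c ∧ (∀ i, cι c i ≫ τ = g i) ∧
      ∀ σ : vtx c ⟶ T, σ ≫ pT = pC c → (∀ i, cι c i ≫ σ = g i) → σ = τ := by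
  obtain ⟨C⟩ := exists_relCharts B hT pT
  have hA : ∀ k, IsAlgSpace ((yon S).obj (C.A k)) := fun k => IsAlgSpace.yon_obj _
  have hC : IsAlgSpace (vtx c) := c.pt.left.property
  have hd : ∀ i, IsAlgSpace (d D i) := fun i => (D.obj i).left.property
  choose U a q r hU ha hqa hr hrn using fun k => exists_glue_space h₁ hT g hg (hA k)
    (AlgSp.isEtaleMor_of_repWith _ (C.et k) : IsEtaleMor (C.w k))
  -- the family covers the vertex
  let W : Set (Points (vtx c)) := ⋃ k, Set.range (Points.map (a k))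
  have hW : IsOpen W := isOpen_iUnion fun k => (isOpenMap_map_of_locP (hU k) hC
    (fun U V x y h hx hy e => by
      have : Etale h.left := locP_of_isEtaleMor (ha k) x y h hx hy e
      exact (inferInstance : Flat h.left))
    (fun U V x y h hx hy e => by
      have : Etale h.left := locP_of_isEtaleMor (ha k) x y h hx hy e
      exact (inferInstance : LocallyOfFinitePresentation h.left))).isOpen_range
  have hι : ∀ i, Set.range (Points.map (cι c i)) ⊆ W := by
    rintro i _ ⟨y, rfl⟩
    obtain ⟨k, x, hx⟩ := C.cover (Points.map (g i) y)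
    obtain ⟨p, hp, -⟩ := Groth.AlgSpBasic.exists_point_of_isPullback
      (IsPullback.of_hasPullback (g i) (C.w k)) y x hx.symm
    refine Set.mem_iUnion.2 ⟨k, Points.map (q k i) p, ?_⟩
    rw [← Points.map_comp, hqa, Points.map_comp, hp]
  have hsurj : ∀ y, y ∈ W := by
    intro y
    haveI := mono_openSubι hW
    choose l hl using fun i => exists_openSub_factor hW (cι c i) (hι i)
    obtain ⟨m, ⟨hm, -⟩, -⟩ := existsUnique_hom h₁' hC (isAlgSpace_openSub hC hW) (isEtaleMor_id _)
      (Groth.AlgSpBasic.ColimitSep.isEtaleMor_of_repWith hC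
        (repWith_mono (fun A B k (hk : IsOpenImmersion k) => (inferInstance : Etale k))
          (repWith_openSubι hW)))
      (fun i => pullback.fst _ _ ≫ l i) (fun i => by rw [Category.assoc, hl])
      (fun i j φ => by
        rw [sysMap_fst_assoc]
        refine congrArg (pullback.fst (cι c i) (𝟙 _) ≫ ·) ((cancel_mono (openSubι (vtx c) W)).1 ?_)
        rw [Category.assoc, hl, hl, cι_compat c φ])
    refine range_map_openSubι.le ⟨Points.map m y, ?_⟩
    rw [← Points.map_comp, hm, Points.map_id]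
  have hcov : ∀ y, ∃ (k : C.K) (x : Points (U k)), Points.map (a k) x = y := fun y => by
    obtain ⟨k, x, hx⟩ := Set.mem_iUnion.1 (hsurj y)
    exact ⟨k, x, hx⟩
  -- the local morphisms
  have hex : ∀ k, ∃ f : U k ⟶ (yon S).obj (C.A k), Cond (C.z k) (a k) (r k) (C.b k) f := fun k =>
    haveI := C.affA k
    haveI := C.affB k
    exists_cond h₁' h₂ (C.hb k) (C.z k) (hU k) (ha k) ⟨fun i => by
      rw [← C.comm, reassoc_of% (hr k i), hgB, ← reassoc_of% (pullback.condition
        (f := cι c i) (g := a k)), cι_pC], hrn k⟩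
  choose f hf using hex
  let τ : ∀ k, U k ⟶ T := fun k => f k ≫ C.w k
  have hτB : ∀ k, τ k ≫ pT = a k ≫ pC c := fun k => by
    show (f k ≫ C.w k) ≫ pT = _
    rw [Category.assoc, C.comm]
    exact (hf k).1
  have hτg : ∀ k i, pullback.snd (cι c i) (a k) ≫ τ k = pullback.fst _ _ ≫ g i := fun k i =>
    ((Category.assoc _ _ _).symm.trans (congrArg (· ≫ C.w k) ((hf k).2 i))).trans (hr k i)
  have hsys : ∀ k {Q : Sp S} (h : Q ⟶ U k) {q : Q ⟶ vtx c} (_ : h ≫ a k = q) i,
      pullback.snd (cι c i) q ≫ h ≫ τ k = pullback.fst _ _ ≫ g i := by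
    intro k Q h q e i
    subst e
    have := pullback.lift (pullback.fst (cι c i) (h ≫ a k)) (pullback.snd (cι c i) (h ≫ a k) ≫ h)
      (pullback.condition.trans (Category.assoc _ _ _).symm) ≫= hτg k i
    rwa [pullback.lift_snd_assoc, pullback.lift_fst_assoc, Category.assoc] at this
  have hag : ∀ k l, pullback.fst (a k) (a l) ≫ τ k = pullback.snd (a k) (a l) ≫ τ l := by
    intro k l
    refine hom_eq_of_systems h₁' h₂ hT C (isAlgSpace_pb (hU k) (hU l) hC _ _)
      (isEtaleMor_comp (isEtaleMor_of_isPullback (hU l) hC (hU k)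
        (IsPullback.of_hasPullback (a k) (a l)).flip (ha l)) (ha k)) ?_ ?_ fun i => ?_
    · rw [Category.assoc, hτB, Category.assoc]
    · rw [Category.assoc, hτB, ← pullback.condition_assoc, Category.assoc]
    · exact (hsys k _ rfl i).trans (hsys l _ pullback.condition.symm i).symm
  obtain ⟨σ, hσ⟩ := exists_desc_family hU a ha hcov τ hag
  have hσB : σ ≫ pT = pC c := hom_ext_of_etale_family hC hU a ha hcov fun k => by
    rw [← Category.assoc, hσ, hτB]
  have hσg : ∀ i, cι c i ≫ σ = g i := fun i => by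
    refine hom_ext_of_etale_family (hd i) (U := fun k => pullback (cι c i) (a k))
      (fun k => isAlgSpace_pb (hd i) (hU k) hC _ _) (fun k => pullback.fst (cι c i) (a k))
      (fun k => isEtaleMor_of_isPullback (hU k) hC (hd i)
        (IsPullback.of_hasPullback (cι c i) (a k)).flip (ha k)) (fun y => ?_) fun k => ?_
    · obtain ⟨k, x, hx⟩ := hcov (Points.map (cι c i) y)
      obtain ⟨p, hp, -⟩ := Groth.AlgSpBasic.exists_point_of_isPullback
        (IsPullback.of_hasPullback (cι c i) (a k)) y x hx.symm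
      exact ⟨k, p, hp⟩
    · rw [pullback.condition_assoc, hσ, hτg]
  refine ⟨σ, hσB, hσg, fun σ' hB hg' => ?_⟩
  refine hom_eq_of_systems h₁' h₂ hT C hC (isEtaleMor_id _) (by rw [hB, Category.id_comp])
    (by rw [hσB, Category.id_comp]) fun i => ?_
  have e : pullback.snd (cι c i) (𝟙 (vtx c)) = pullback.fst _ _ ≫ cι c i :=
    (Category.comp_id _).symm.trans pullback.condition.symm
  rw [e, Category.assoc, Category.assoc, hg', hσg]

/-- The vertex is a colimit. -/
theorem nonempty_isColimit (h₁ : EffDesc c) (h₁' : FullDesc c) (h₂ : AffDesc c) :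
    Nonempty (IsColimit c) := by
  have key := fun s : Cocone D => exists_desc h₁ h₁' h₂ s.pt.left.property s.pt.hom.hom
    (fun i => (s.ι.app i).left.hom) (fun i j φ => congrArg (fun k => k.left.hom) (s.w φ))
    (fun i => over_w _)
  choose τ hτ₁ hτ₂ hτ₃ using key
  exact ⟨{
    desc := fun s => mkHom (τ s) (hτ₁ s)
    fac := fun s i => Over.OverMorphism.ext (ObjectProperty.hom_ext _ (hτ₂ s i))
    uniq := fun s m hm => Over.OverMorphism.ext (ObjectProperty.hom_ext _
      (hτ₃ s _ (over_w m) fun i => congrArg (fun k => k.left.hom) (hm i))) }⟩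

end Groth.AlgSp2.EtColim
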